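import Groth.Agent.Lib.GaloisSplit17.Curve
import Groth.Agent.Lib.LefFEt11.Lift
import Groth.Agent.Lib.P1Split17.Basis

/-!
# Bundles with trivial endomorphism bundle are powers of a line bundle

If the sheaf of endomorphisms of a bundle is free and the global functions map bijectively to the residue field
at a point, the endomorphisms are the matrices over that field, so the bundle is a power of a line bundle.
-/

set_option autoImplicit false
set_option linter.style.haveILetI false
set_option linter.unusedSectionVars false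
set_option backward.isDefEq.respectTransparency false
set_option backward.isDefEq.respectTransparency.types false
set_option maxHeartbeats 800000

universe u

open CategoryTheory CategoryTheory.Limits AlgebraicGeometry TopologicalSpace

noncomputable section

namespace Groth.Agent.TrivEnd11

open Groth.Agent

variable {X : Scheme.{u}} {x : X} {n : ℕ}

/-- The evaluation of global functions at a point. -/
def ev₀ (x : X) : Γ(X, ⊤) →+* X.residueField x := (X.residue x).hom.comp (X.presheaf.germ ⊤ x trivial).hom

theorem germ_unit (c : Γ(X, ⊤)) :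
    (Coh.structureModule X).presheaf.germ ⊤ x trivial (c • M1.one ⊤) = RH26.str x (X.presheaf.germ ⊤ x trivial c) := by
  rw [Mero.germ_smul, RH26.str_apply]
  rfl

theorem exists_unit_mult (u : Γ(Coh.structureModule X, ⊤)) : ∃ c : Γ(X, ⊤), c • M1.one ⊤ = u := by
  let c : Γ(X, ⊤) := u
  exact ⟨c, mul_one c⟩

theorem stalkMap_mem {M N : X.Modules} (f : M ⟶ N) {v : M.presheaf.stalk x}
    (hv : v ∈ IsLocalRing.maximalIdeal (X.presheaf.stalk x) • (⊤ : Submodule (X.presheaf.stalk x) (M.presheaf.stalk x))) :
    RefHull.stalkMapₗ f x v ∈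
      IsLocalRing.maximalIdeal (X.presheaf.stalk x) • (⊤ : Submodule (X.presheaf.stalk x) (N.presheaf.stalk x)) := by
  induction hv using Submodule.smul_induction_on' with
  | smul r hr w _ =>
    rw [map_smul]
    exact Submodule.smul_mem_smul hr Submodule.mem_top
  | add a _ b _ ha hb =>
    rw [map_add]
    exact add_mem ha hb

theorem sum_app {M : X.Modules} (g : Fin n → (M ⟶ M)) (hg : ∑ i, g i = 𝟙 M) (V : X.Opens) (s : Γ(M, V)) :
    ∑ i, (g i).app V s = s := by
  let A : (M ⟶ M) →+ Γ(M, V) :=
    AddMonoidHom.mk' (fun φ => φ.app V s) fun f g => rfl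
  have := map_sum A g Finset.univ
  rw [hg] at this
  exact this.symm

/-- Global sections of a free module are its fibre. -/
theorem free_fibre (hΓ : Function.Bijective (ev₀ x)) {M : X.Modules}
    (q : Fin n → (M ⟶ Coh.structureModule X)) (j : Fin n → (Coh.structureModule X ⟶ M))
    (h : ∑ i, q i ≫ j i = 𝟙 M) :
    (∀ s : Γ(M, ⊤), M.presheaf.germ ⊤ x trivial s ∈
        IsLocalRing.maximalIdeal (X.presheaf.stalk x) • (⊤ : Submodule (X.presheaf.stalk x) (M.presheaf.stalk x)) → s = 0) ∧
      ∀ w : M.presheaf.stalk x, ∃ s : Γ(M, ⊤), M.presheaf.germ ⊤ x trivial s - w ∈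
        IsLocalRing.maximalIdeal (X.presheaf.stalk x) • (⊤ : Submodule (X.presheaf.stalk x) (M.presheaf.stalk x)) := by
  constructor
  · intro s hs
    have hz : ∀ i, (q i).app ⊤ s = 0 := fun i => by
      obtain ⟨c, hc⟩ := exists_unit_mult ((q i).app ⊤ s)
      have h1 := stalkMap_mem (q i) hs
      rw [RefHull.stalkMapₗ_germ, ← hc, germ_unit, RH26.str_apply] at h1
      have h2 := Cyc26.mem_maximal_of_mem_smul_top h1
      have h3 : ev₀ x c = 0 := (IsLocalRing.residue_eq_zero_iff _).2 h2
      rw [← hc, hΓ.1 (h3.trans (map_zero _).symm)]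
      exact zero_smul Γ(X, ⊤) (M1.one (⊤ : X.Opens))
    rw [← sum_app _ h ⊤ s]
    refine Finset.sum_eq_zero fun i _ => ?_
    exact (congrArg ((j i).app ⊤) (hz i)).trans (map_zero _)
  · intro w
    have hw : ∀ i, ∃ a, RH26.str x a = RefHull.stalkMapₗ (q i) x w := fun i => (RH26.str x).surjective _
    choose a ha using hw
    choose c hc using fun i => hΓ.2 (X.residue x (a i))
    refine ⟨∑ i, (j i).app ⊤ (c i • M1.one ⊤), ?_⟩
    let A : (M ⟶ M) →+ M.presheaf.stalk x :=
      AddMonoidHom.mk' (fun φ => CurveCoh17.stalkLin φ x w) fun f g => by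
        show (M1.stalkAb x).map (f + g) w = (M1.stalkAb x).map f w + (M1.stalkAb x).map g w
        rw [Functor.map_add]
        rfl
    have hwsum : ∑ i, RefHull.stalkMapₗ (j i) x (RefHull.stalkMapₗ (q i) x w) = w := by
      have h1 := map_sum A (fun i => q i ≫ j i) Finset.univ
      rw [h] at h1
      refine Eq.trans ?_ (h1.symm.trans (CurveCoh17.stalkLin_id' x w))
      exact Finset.sum_congr rfl fun i _ => (CurveCoh17.stalkLin_comp _ _ _ _).symm
    rw [map_sum]
    nth_rewrite 1 [← hwsum]
    rw [← Finset.sum_sub_distrib]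
    refine Submodule.sum_mem _ fun i _ => ?_
    rw [← RefHull.stalkMapₗ_germ (j i) x (U := ⊤) trivial, ← map_sub, germ_unit, ← ha i, ← map_sub]
    refine stalkMap_mem (j i) ?_
    rw [RH26.str_apply]
    refine Submodule.smul_mem_smul ?_ Submodule.mem_top
    refine (IsLocalRing.residue_eq_zero_iff _).1 ?_
    rw [map_sub]
    exact sub_eq_zero.2 (hc i)

variable {k : Type u} [Field k] (p : X ⟶ Spec (CommRingCat.of k)) {E : X.Modules} {r : ℕ}

/-- The endomorphisms are the matrices over the residue field. -/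
theorem bijective_fibreHom (hΓ : Function.Bijective (ev₀ x)) (hFP : CohB1.IsFP E)
    (q : Fin n → (RefHull.homSh E E ⟶ Coh.structureModule X))
    (j : Fin n → (Coh.structureModule X ⟶ RefHull.homSh E E)) (h : ∑ i, q i ≫ j i = 𝟙 _)
    (e : E.presheaf.stalk x ≃ₗ[X.presheaf.stalk x] (Fin r → X.presheaf.stalk x)) :
    Function.Bijective (GaloisSplit17.fibreHom p E x e) := by
  classical
  obtain ⟨hinj, hsurj⟩ := free_fibre hΓ q j h
  have hev := RH26.evalStalk_bijective hFP E x
  let C : RefHull.StalkHom E E x ≃ₗ[X.presheaf.stalk x]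
      Matrix (Fin r) (Fin r) (X.presheaf.stalk x) := e.conj.trans LinearMap.toMatrix'
  let R : Matrix (Fin r) (Fin r) (X.presheaf.stalk x) →+* Matrix (Fin r) (Fin r) (X.residueField x) :=
    (X.residue x).hom.mapMatrix
  have hΦ : ∀ g : E ⟶ E, GaloisSplit17.fibreHom p E x e g = R (C (RefHull.stalkMapₗ g x)) := fun g => rfl
  let m := IsLocalRing.maximalIdeal (X.presheaf.stalk x)
  have hker : ∀ L, R (C L) = 0 ↔ L ∈ m • (⊤ : Submodule (X.presheaf.stalk x) (RefHull.StalkHom E E x)) := by
    intro L
    constructor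
    · intro h0
      rw [← C.symm_apply_apply L, Matrix.matrix_eq_sum_single (C L)]
      simp only [map_sum]
      refine Submodule.sum_mem _ fun a _ => Submodule.sum_mem _ fun b _ => ?_
      rw [← mul_one ((C L) a b), ← smul_eq_mul, ← Matrix.smul_single, map_smul]
      exact Submodule.smul_mem_smul ((IsLocalRing.residue_eq_zero_iff _).1 (congrFun (congrFun h0 a) b))
        Submodule.mem_top
    · intro hL
      induction hL using Submodule.smul_induction_on' with
      | smul c hc L' _ =>
        rw [map_smul]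
        refine Matrix.ext fun a b => ?_
        show X.residue x (c * C L' a b) = 0
        rw [map_mul, show X.residue x c = 0 from (IsLocalRing.residue_eq_zero_iff _).2 hc, zero_mul]
      | add a _ b _ ha hb => rw [map_add, map_add, ha, hb, add_zero]
  have himg : (m • (⊤ : Submodule (X.presheaf.stalk x) ((RefHull.homSh E E).presheaf.stalk x))).map
      (RefHull.evalStalk E E x) = m • (⊤ : Submodule (X.presheaf.stalk x) (RefHull.StalkHom E E x)) := by
    rw [Submodule.map_smul'', Submodule.map_top, LinearMap.range_eq_top.2 hev.2]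
  constructor
  · refine (injective_iff_map_eq_zero _).2 fun g hg => ?_
    have h1 : RefHull.stalkMapₗ (g : E ⟶ E) x ∈ m • (⊤ : Submodule (X.presheaf.stalk x) (RefHull.StalkHom E E x)) :=
      (hker _).1 ((hΦ g).symm.trans hg)
    rw [← himg] at h1
    obtain ⟨v, hv, hve⟩ := h1
    have h2 : v = (RefHull.homSh E E).presheaf.germ ⊤ x trivial (RefHull.ofHom (g : E ⟶ E) ⊤) :=
      hev.1 (hve.trans (by rw [RefHull.evalStalk_germ]; rfl))
    have h3 := hinj _ (h2 ▸ hv)
    refine LefFEt11.hom_ext_stalkMapₗ (φ := (g : E ⟶ E)) (ψ := 0) fun y => ?_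
    have h4 : RefHull.stalkMapₗ (g : E ⟶ E) y = 0 :=
      congrArg (fun θ : Γ(RefHull.homSh E E, ⊤) => θ.1 ⟨y, trivial⟩) h3
    rw [h4]
    refine LinearMap.ext fun v => ?_
    obtain ⟨V, hV, t, rfl⟩ := E.presheaf.exists_germ_eq v
    exact ((RefHull.stalkMapₗ_germ _ y hV t).trans (map_zero _)).symm
  · intro N
    choose N' hN' using fun a b => Scheme.residue_surjective X x (N a b)
    obtain ⟨w, hw⟩ := hev.2 (C.symm (Matrix.of N'))
    obtain ⟨s, hs⟩ := hsurj w
    obtain ⟨g, hg⟩ := LefFEt11.exists_hom_of_globalHom s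
    refine ⟨g, ?_⟩
    have h1 : RefHull.stalkMapₗ g x - C.symm (Matrix.of N') ∈
        m • (⊤ : Submodule (X.presheaf.stalk x) (RefHull.StalkHom E E x)) := by
      rw [← himg, hg, ← hw]
      refine ⟨_, hs, ?_⟩
      rw [map_sub, RefHull.evalStalk_germ]
    have h2 := (hker _).2 h1
    rw [map_sub, map_sub, sub_eq_zero, LinearEquiv.apply_symm_apply] at h2
    exact (hΦ g).trans (h2.trans (Matrix.ext fun a b => hN' a b))

include p in
/-- A bundle with free endomorphism bundle is a power of a line bundle. -/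
theorem exists_power [IsIntegral X] (hΓ : Function.Bijective (ev₀ x)) (hE : FlatMod.IsFinLocFreeOfRank r E)
    (hr : 0 < r) (θ : RefHull.homSh E E ≅ FlatMod.freeMod X n) :
    ∃ L : X.Modules, PicF.IsInvertible L ∧ Nonempty (E ≅ ∐ fun _ : Fin r => L) := by
  classical
  haveI := Abelian.hasFiniteBiproducts (C := X.Modules)
  have hq : ∑ i, (θ.hom ≫ P1Split.proj (fun _ : Fin n => Coh.structureModule X) i) ≫
      Sigma.ι (fun _ : Fin n => Coh.structureModule X) i ≫ θ.inv = 𝟙 _ := by
    simp only [Category.assoc]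
    rw [← Preadditive.comp_sum]
    simp only [← Category.assoc]
    rw [← Preadditive.sum_comp]
    erw [P1Split.sum_proj_ι (fun _ : Fin n => Coh.structureModule X)]
    erw [Category.id_comp]
    exact θ.hom_inv_id
  obtain ⟨e⟩ := CurveCoh17.nonempty_stalk_equiv hE x
  let Φ := GaloisSplit17.fibreHom p E x e
  have hΦ : Function.Bijective Φ := bijective_fibreHom p hΓ (M1.isFP_of_isFinLocFree (M2.isFinLocFree_of_ofRank hE)) _ _ hq e
  let Ψ := RingEquiv.ofBijective Φ hΦ
  let u : Fin r → Fin r → KS29.EndA p E := fun a b => Ψ.symm (Matrix.single a b 1)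
  let M : Fin r → Fin r → (E ⟶ E) := fun a b => u a b
  have hmul : ∀ a b c, M b c ≫ M a b = M a c := fun a b c => by
    show u a b * u b c = u a c
    rw [← map_mul, Matrix.single_mul_single_same, mul_one]
  have hmul0 : ∀ a b b' c, b ≠ b' → M b' c ≫ M a b = 0 := fun a b b' c hb => by
    show u a b * u b' c = 0
    rw [← map_mul, show Matrix.single a b (1 : X.residueField x) * Matrix.single b' c 1 = 0 by simp [hb], map_zero]
  have hone : ∑ a, M a a = 𝟙 E := by
    show ∑ a, u a a = 1
    rw [← map_sum, Matrix.sum_single_one, map_one]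
  let o : Fin r := ⟨0, hr⟩
  have hk : M o o ≫ (𝟙 E - M o o) = 0 := by rw [Preadditive.comp_sub, Category.comp_id, hmul, sub_self]
  let L := kernel (𝟙 E - M o o)
  let π : E ⟶ L := kernel.lift _ (M o o) hk
  let ι : L ⟶ E := kernel.ι _
  have hπι : π ≫ ι = M o o := kernel.lift_ι _ _ _
  have hι : ι ≫ M o o = ι := by
    have := kernel.condition (𝟙 E - M o o)
    rw [Preadditive.comp_sub, Category.comp_id, sub_eq_zero] at this
    exact this.symm
  have hιπ : ι ≫ π = 𝟙 L := by
    rw [← cancel_mono ι, Category.assoc, hπι, hι, Category.id_comp]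
  let d : KS29.Dec E fun _ : Fin r => L :=
    { inj := fun a => ι ≫ M a o
      prj := fun a => M o a ≫ π
      inj_prj := fun a => by rw [Category.assoc, ← Category.assoc (M a o), hmul, ← Category.assoc, hι, hιπ]
      inj_prj_ne := fun {a b} hab => by
        rw [Category.assoc, ← Category.assoc (M a o), hmul0 _ _ _ _ hab.symm, zero_comp, comp_zero]
      total := by
        simp only [Category.assoc]
        rw [← hone]
        refine Finset.sum_congr rfl fun a _ => ?_
        rw [← Category.assoc π, hπι, hmul, hmul] }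
  have hL : ¬ IsZero L := fun h0 => by
    have h1 : M o o = 0 := by rw [← hπι, h0.eq_of_tgt π 0, zero_comp]
    have h2 : u o o = 0 := h1
    have h3 := congrArg Ψ h2
    rw [RingEquiv.apply_symm_apply, map_zero] at h3
    exact one_ne_zero ((Matrix.single_apply_same o o (1 : X.residueField x)).symm.trans (congrFun (congrFun h3 o) o))
  exact ⟨L, GaloisSplit17.isInvertible_of_dec hE d (fun _ => hL) o, ⟨d.isoCoproduct⟩⟩

end Groth.Agent.TrivEnd11

end
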