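import Groth.Agent.Lib.GenusFF17.Sum
import Groth.Agent.Lib.P1Split17.Main
import Groth.Agent.Lib.RankTwo11.GMGeo
import Groth.Agent.Lib.HilbObs3.Vanish
import Groth.Agent.Lib.LiftFib11.HomBC
import Groth.Agent.Lib.RankTwo11.Proj
import Groth.Agent.Lib.CurveCoh17.Degree
import Groth.Prelude.Def_ModFun2

/-!
# Semistable bundles on the projective line and their endomorphisms
-/

set_option autoImplicit false
set_option linter.style.haveILetI false
set_option linter.unusedSectionVars false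
set_option backward.isDefEq.respectTransparency false
set_option backward.isDefEq.respectTransparency.types false
set_option maxHeartbeats 800000

universe u

open CategoryTheory CategoryTheory.Limits AlgebraicGeometry TopologicalSpace

noncomputable section

namespace Groth.Agent.TrivEnd11

open Groth.Agent

section duals

variable {X Y : Scheme.{u}}

/-- The dual of a bundle has the same rank. -/
theorem rank_dual {n : ℕ} {E : X.Modules} (hE : FlatMod.IsFinLocFreeOfRank n E) :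
    FlatMod.IsFinLocFreeOfRank n (CohMop.dual E) := fun x => by
  obtain ⟨U, hxU, ⟨e⟩⟩ := hE x
  obtain ⟨e'⟩ := CohMop.nonempty_dual_freeMod (X := (U : Scheme.{u})) n
  exact ⟨U, hxU, ⟨(CohMop.restrictIhomIso U E).app (Coh.structureModule X) ≪≫
    ((CohMop.ihomIso e).app _) ≪≫ ((CohMop.ihom _).mapIso (Scheme.Modules.restrictUnitIso U.ι)) ≪≫ e'⟩⟩

/-- The two internal homs agree. -/
def sheafHomIhomIso (F : X.Modules) [DCoh.HasSheafHom F] : DCoh.sheafHom F ≅ CohMop.ihom F :=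
  (DCoh.sheafHomAdj F).rightAdjointUniq
    ((CohMop.ihomAdj F).ofNatIsoLeft (KFlat.Site.flipObjIso X.sheaf F).symm)

/-- The dual commutes with pullback. -/
theorem nonempty_pullback_dual (f : Y ⟶ X) {E : X.Modules} (hE : FlatMod.IsFinLocFree E) :
    Nonempty ((Scheme.Modules.pullback f).obj (CohMop.dual E) ≅
      CohMop.dual ((Scheme.Modules.pullback f).obj E)) := by
  haveI := HilbObs3.hasSheafHom E
  haveI := HilbObs3.hasSheafHom ((Scheme.Modules.pullback f).obj E)
  obtain ⟨e₁⟩ := HilbObs3.nonempty_sheafHom_iso (A := E) (Coh.structureModule X)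
  obtain ⟨e₂⟩ := HilbObs3.nonempty_sheafHom_iso (A := (Scheme.Modules.pullback f).obj E)
    ((Scheme.Modules.pullback f).obj (Coh.structureModule X))
  haveI := LiftFib11.isIso_homCmp f hE (M2.isFinLocFree_of_ofRank
    (M2.isFinLocFreeOfRank_of_iso (M2.freeModOneIso X) (M2.isFinLocFreeOfRank_freeMod X 1)))
  exact ⟨(Scheme.Modules.pullback f).mapIso (((sheafHomIhomIso E).app _).symm ≪≫ e₁) ≪≫
    asIso (LiftFib11.homCmp f E (Coh.structureModule X)) ≪≫ e₂.symm ≪≫
    (sheafHomIhomIso _).app _ ≪≫ (CohMop.ihom _).mapIso (Twist.pullbackUnitIso f)⟩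

end duals

variable {k : Type u} [Field k] {r : ℕ}

local notation "P₁" => CohB1.ProjSpace 1 k
local notation "O₁" d:max => _root_.Twist.twistProjSpace 1 k d

/-- A semistable bundle on the line is a power of a twist. -/
theorem exists_const_of_semistable {E : (P₁).Modules} (hE : FlatMod.IsFinLocFreeOfRank r E) (hr : 0 < r)
    (hss : @ModFun.IsSlopeSemistable k _ P₁ ⟨CohB1.ProjSpace.toSpec 1 k⟩ E r) :
    ∃ a : ℤ, Nonempty (E ≅ ∐ fun _ : Fin r => O₁ a) := by
  letI : (P₁).Over (Spec (CommRingCat.of k)) := ⟨CohB1.ProjSpace.toSpec 1 k⟩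
  obtain ⟨d, -, ⟨e⟩⟩ := P1Split.exists_splitting (k := k) E hE
  have h1 : Curv2.euler k P₁ (Coh.structureModule P₁) = 1 := by
    rw [← CurveCoh17.euler_iso (RankTwo11.zeroIso (k := k) (n := 1))]
    exact HypEq17.euler_twist_zero
  have hdeg : ∀ a : ℤ, Curv2.deg k P₁ (O₁ a) 1 = a := fun a => by
    rw [Curv2.deg, h1, GenusFF17.euler_twist a]
    push_cast
    ring
  have hdegE : Curv2.deg k P₁ E r = ∑ i, d i := by
    rw [Curv2.deg, h1, CurveCoh17.euler_iso e, (GenusFF17.euler_splitMod d).2, Finset.sum_add_distrib]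
    simp
  have hle : ∀ j, d j * (r : ℤ) ≤ ∑ i, d i := fun j => by
    have hq : Sigma.ι (fun i : Fin r => O₁ (d i)) j ≫ P1Split.proj (fun i : Fin r => O₁ (d i)) j = 𝟙 _ :=
      P1Split.ι_proj_self _ j
    haveI : Mono (Sigma.ι (fun i : Fin r => O₁ (d i)) j) :=
      SplitMono.mono ⟨_, hq⟩
    have h2 := hss (O₁ (d j)) 1 (Sigma.ι (fun i : Fin r => O₁ (d i)) j ≫ e.inv) inferInstance one_pos
      ((M2.isInvertible_iff_isFinLocFreeOfRank_one _).1 (Twist.isInvertible_twistProjSpace 1 k (d j)))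
    rw [hdeg, hdegE] at h2
    simpa using h2
  let o : Fin r := ⟨0, hr⟩
  have hzero : ∑ j, ((∑ i, d i) - d j * (r : ℤ)) = 0 := by
    rw [Finset.sum_sub_distrib, ← Finset.sum_mul]
    simp [mul_comm]
  have hall : ∀ j, d j * (r : ℤ) = ∑ i, d i := fun j => by
    have := (Finset.sum_eq_zero_iff_of_nonneg fun i _ => sub_nonneg.2 (hle i)).1 hzero j (Finset.mem_univ _)
    omega
  have hd : ∀ j, d j = d o := fun j =>
    mul_right_cancel₀ (by exact_mod_cast hr.ne') ((hall j).trans (hall o).symm)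
  exact ⟨d o, ⟨e ≪≫ Sigma.mapIso fun j => eqToIso (congrArg (fun c => O₁ c) (hd j))⟩⟩

/-- The endomorphism bundle of a power of a twist is free. -/
theorem nonempty_end_free {E : (P₁).Modules} {a : ℤ} (g : E ≅ ∐ fun _ : Fin r => O₁ a) :
    Nonempty (CohB1.tensorMod E (CohMop.dual E) ≅ FlatMod.freeMod P₁ (r * r)) := by
  let Fr := FlatMod.freeMod P₁ r
  let g'' : E ≅ CohB1.tensorMod Fr (O₁ a) := g ≪≫ (M2.freeModTensorIso P₁ r (O₁ a)).symm
  obtain ⟨d1⟩ := ES11.nonempty_dual_iso_of_inverse (L := O₁ a) (D := O₁ (-a))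
    (Twist.isInvertible_twistProjSpace 1 k a) (RankTwo11.negIso (k := k) (n := 1) a)
  obtain ⟨d2⟩ := RankTwo11.GM.nonempty_dual_sigma (l := r) (O₁ a)
  let dE : CohMop.dual E ≅ CohB1.tensorMod (O₁ (-a)) Fr :=
    ((CohMop.ihomIso g).app (Coh.structureModule P₁)) ≪≫ d2 ≪≫ Sigma.mapIso (fun _ => d1) ≪≫
      (M2.freeModTensorIso P₁ r (O₁ (-a))).symm ≪≫ M2.tensorComm _ _
  exact ⟨M2.tensorIso g'' dE ≪≫ M2.tensorAssoc _ _ _ ≪≫
    M2.tensorIso (Iso.refl _) ((M2.tensorAssoc _ _ _).symm ≪≫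
      M2.tensorIso (RankTwo11.negIso (k := k) (n := 1) a) (Iso.refl _) ≪≫ M2.tensorLUnit _) ≪≫
    M2.freeModMulIso P₁ r r⟩

end Groth.Agent.TrivEnd11

end
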